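import Mathlib.Algebra.Group.PUnit
import Mathlib.GroupTheory.SemidirectProduct
import Mathlib.GroupTheory.Solvable
import Mathlib.GroupTheory.OrderOfElement
import Mathlib.Algebra.GroupWithZero.Units.Basic
import Mathlib.Algebra.Ring.Prod
import Mathlib.Data.Fintype.BigOperators
import Mathlib.NumberTheory.Divisors

/-!
Counting solutions of `x ^ n = 1` in semidirect products and direct products, for groups of
exponent dividing `168`.
-/

set_option autoImplicit false

namespace Cfsg.Agent.OrderType

/-- The divisors of `168`. -/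
def divs : List ℕ := [1, 2, 3, 4, 6, 7, 8, 12, 14, 21, 24, 28, 42, 56, 84, 168]

/-- A table of values on the divisors. -/
def tab (l : List ℕ) (n : ℕ) : ℕ := l.getD (divs.idxOf n) 0

/-- The number of solutions of `x ^ n = 1`. -/
noncomputable def cnt (G : Type) [Monoid G] (n : ℕ) : ℕ := Nat.card {g : G // g ^ n = 1}

/-- Some solvable group of exponent dividing `168` has these counts. -/
def SolvWith (v : ℕ → ℕ) : Prop :=
  ∃ (G : Type) (_ : Group G) (_ : Finite G),
    Group.IsSolvable G ∧ (∀ g : G, g ^ 168 = 1) ∧ ∀ n ∈ divs, cnt G n = v n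

/-- Some non-solvable group of exponent dividing `168` has these counts. -/
def NonsolvWith (v : ℕ → ℕ) : Prop :=
  ∃ (G : Type) (_ : Group G) (_ : Finite G),
    ¬ Group.IsSolvable G ∧ (∀ g : G, g ^ 168 = 1) ∧ ∀ n ∈ divs, cnt G n = v n

theorem cnt_prod (G H : Type) [Monoid G] [Monoid H] (n : ℕ) :
    cnt (G × H) n = cnt G n * cnt H n := by
  rw [cnt, cnt, cnt, ← Nat.card_prod]
  refine Nat.card_congr ((Equiv.subtypeEquivRight fun g => ?_).trans Equiv.subtypeProdEquivProd)
  show g ^ n = 1 ↔ g.1 ^ n = 1 ∧ g.2 ^ n = 1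
  rw [Prod.ext_iff]
  rfl

theorem SolvWith.congr {v w : ℕ → ℕ} (h : SolvWith v) (e : ∀ n ∈ divs, v n = w n) : SolvWith w := by
  obtain ⟨G, i, f, hs, he, hc⟩ := h
  exact ⟨G, i, f, hs, he, fun n hn => (hc n hn).trans (e n hn)⟩

theorem SolvWith.prod {v w : ℕ → ℕ} (h : SolvWith v) (k : SolvWith w) :
    SolvWith fun n => v n * w n := by
  obtain ⟨G, i, f, hs, he, hc⟩ := h
  obtain ⟨H, i', f', hs', he', hc'⟩ := k
  refine ⟨G × H, inferInstance, inferInstance, inferInstance, fun g => Prod.ext (he g.1) (he' g.2),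
    fun n hn => ?_⟩
  rw [cnt_prod, hc n hn, hc' n hn]

theorem SolvWith.unit : SolvWith fun _ => 1 := by
  refine ⟨PUnit, inferInstance, inferInstance, inferInstance, fun _ => rfl, fun n _ => ?_⟩
  haveI : Nonempty {g : PUnit // g ^ n = 1} := ⟨⟨1, one_pow n⟩⟩
  exact Nat.card_of_subsingleton Classical.ofNonempty

theorem SolvWith.pow {v : ℕ → ℕ} (h : SolvWith v) (e : ℕ) : SolvWith fun n => v n ^ e := by
  induction e with
  | zero => exact SolvWith.unit.congr fun n _ => (pow_zero _).symm
  | succ e ih => exact (ih.prod h).congr fun n _ => (pow_succ _ _).symm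

theorem NonsolvWith.prod {v w : ℕ → ℕ} (h : NonsolvWith v) (k : SolvWith w) :
    NonsolvWith fun n => v n * w n := by
  obtain ⟨G, i, f, hs, he, hc⟩ := h
  obtain ⟨H, i', f', hs', he', hc'⟩ := k
  refine ⟨G × H, inferInstance, inferInstance, fun hsol => hs ?_,
    fun g => Prod.ext (he g.1) (he' g.2), fun n hn => ?_⟩
  · haveI := hsol
    exact solvable_of_surjective (f := MonoidHom.fst G H) fun g => ⟨(g, 1), rfl⟩
  · rw [cnt_prod, hc n hn, hc' n hn]

theorem NonsolvWith.pow {v : ℕ → ℕ} (h : NonsolvWith v) (e : ℕ) :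
    NonsolvWith fun n => v n ^ (e + 1) := by
  induction e with
  | zero =>
    obtain ⟨G, i, f, hs, he, hc⟩ := h
    exact ⟨G, i, f, hs, he, fun n hn => by rw [hc n hn]; exact (pow_one _).symm⟩
  | succ e ih =>
    obtain ⟨G, i, f, hs, he, hc⟩ := h
    obtain ⟨H, i', f', hs', he', hc'⟩ := ih
    refine ⟨G × H, inferInstance, inferInstance, fun hsol => hs ?_,
      fun g => Prod.ext (he g.1) (he' g.2), fun n hn => ?_⟩
    · haveI := hsol
      exact solvable_of_surjective (f := MonoidHom.fst G H) fun g => ⟨(g, 1), rfl⟩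
    · rw [cnt_prod, hc n hn, hc' n hn]
      exact (pow_succ' (v n) (e + 1)).symm

theorem exp_of_cnt {G : Type} [Group G] [Finite G] (h : cnt G 168 = Nat.card G) (g : G) :
    g ^ 168 = 1 := by
  have hb := (Nat.bijective_iff_injective_and_card
    (Subtype.val : {x : G // x ^ 168 = 1} → G)).2 ⟨Subtype.val_injective, h⟩
  obtain ⟨⟨x, hx⟩, rfl⟩ := hb.2 g
  exact hx

/-! ### Semidirect products of rings by groups of units -/

variable {R : Type} [CommRing R] {H : Type} [CommGroup H]

/-- Multiplication by the units given by a character. -/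
def unitAct (χ : H →* Rˣ) : H →* MulAut (Multiplicative R) where
  toFun h :=
    { toFun := fun x => Multiplicative.ofAdd ((χ h : R) * x.toAdd)
      invFun := fun x => Multiplicative.ofAdd ((↑(χ h)⁻¹ : R) * x.toAdd)
      left_inv := fun x => by simp [← mul_assoc]
      right_inv := fun x => by simp [← mul_assoc]
      map_mul' := fun x y => by simp [mul_add] }
  map_one' := by ext x; simp
  map_mul' a b := by ext x; simp [mul_assoc]

/-- `1 + w + ... + w ^ (n - 1)`. -/
def geo (w : R) : ℕ → R
  | 0 => 0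
  | n + 1 => 1 + w * geo w n

/-- The number of solutions of `s * v = 0`. -/
def ker1 [Fintype R] [DecidableEq R] (s : R) : ℕ := (Finset.univ.filter fun v => s * v = 0).card

theorem ker1_prod {A B : Type} [CommRing A] [CommRing B] [Fintype A] [Fintype B] [DecidableEq A]
    [DecidableEq B] (s : A × B) : ker1 s = ker1 s.1 * ker1 s.2 := by
  unfold ker1
  rw [← Finset.card_product]
  congr 1
  ext v
  simp [Prod.ext_iff]

theorem semi_pow (χ : H →* Rˣ) (g : Multiplicative R ⋊[unitAct χ] H) (n : ℕ) :
    g ^ n = ⟨Multiplicative.ofAdd (geo (χ g.right : R) n * g.left.toAdd), g.right ^ n⟩ := by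
  induction n with
  | zero => ext <;> simp [geo]
  | succ n ih =>
    rw [pow_succ' g n, ih]
    refine SemidirectProduct.ext ?_ ?_
    · rw [SemidirectProduct.mul_left]
      show g.left * Multiplicative.ofAdd ((χ g.right : R) * (geo (χ g.right : R) n * g.left.toAdd)) = _
      apply Multiplicative.toAdd.injective
      simp [geo, add_mul, mul_assoc]
    · rw [SemidirectProduct.mul_right]
      exact (pow_succ' g.right n).symm

/-- The counts of a semidirect product of a ring by a group of units. -/
def semiCount [Fintype R] [DecidableEq R] [Fintype H] [DecidableEq H] (χ : H →* Rˣ) (n : ℕ) : ℕ :=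
  ∑ h : H, if h ^ n = 1 then ker1 (geo (χ h : R) n) else 0

theorem cnt_semi [Fintype R] [DecidableEq R] [Fintype H] [DecidableEq H] (χ : H →* Rˣ) (n : ℕ) :
    cnt (Multiplicative R ⋊[unitAct χ] H) n = semiCount χ n := by
  have e : {g : Multiplicative R ⋊[unitAct χ] H // g ^ n = 1} ≃
      Σ h : H, {v : R // h ^ n = 1 ∧ geo (χ h : R) n * v = 0} :=
    { toFun := fun g => ⟨g.1.right, g.1.left.toAdd, by
        have h := g.2
        rw [semi_pow, SemidirectProduct.ext_iff] at h
        exact ⟨h.2, Multiplicative.ofAdd.injective h.1⟩⟩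
      invFun := fun x => ⟨⟨Multiplicative.ofAdd x.2.1, x.1⟩, by
        rw [semi_pow]
        refine SemidirectProduct.ext ?_ x.2.2.1
        show Multiplicative.ofAdd (geo (χ x.1 : R) n * x.2.1) = 1
        rw [x.2.2.2]
        rfl⟩
      left_inv := fun _ => rfl
      right_inv := fun _ => rfl }
  rw [cnt, Nat.card_congr e, Nat.card_sigma, semiCount]
  refine Finset.sum_congr rfl fun h _ => ?_
  rw [Nat.card_eq_fintype_card, Fintype.card_subtype]
  by_cases hh : h ^ n = 1
  · rw [if_pos hh]
    simp [hh, ker1]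
  · rw [if_neg hh]
    simp [hh]

theorem SolvWith.semi [Fintype R] [DecidableEq R] [Fintype H] [DecidableEq H] (χ : H →* Rˣ)
    (h : semiCount χ 168 = Fintype.card R * Fintype.card H) : SolvWith (semiCount χ) := by
  let G := Multiplicative R ⋊[unitAct χ] H
  haveI : Finite (Multiplicative R) := Finite.of_equiv R Multiplicative.ofAdd
  haveI : Finite G := Finite.of_equiv _ SemidirectProduct.equivProd.symm
  refine ⟨G, inferInstance, inferInstance, ?_, exp_of_cnt ?_, fun n _ => cnt_semi χ n⟩
  · exact solvable_of_ker_le_range (f := SemidirectProduct.inl) (g := SemidirectProduct.rightHom)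
      (le_of_eq SemidirectProduct.range_inl_eq_ker_rightHom.symm)
  · rw [cnt_semi, h, SemidirectProduct.card, ← Nat.card_eq_fintype_card, ← Nat.card_eq_fintype_card]
    rfl

end Cfsg.Agent.OrderType
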