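import Cfsg.Agent.Lib.FiniteGroup.OrderType.Base
import Mathlib.Algebra.QuadraticAlgebra.Defs
import Mathlib.Data.ZMod.Basic
import Mathlib.Algebra.Group.TypeTags.Finite
import Mathlib.GroupTheory.GroupAction.Hom

/-!
Computable counts for semidirect products of small rings by cyclic groups.
-/

set_option autoImplicit false

namespace Cfsg.Agent.OrderType

instance quadraticAlgebraFintype {R : Type} [Fintype R] (a b : R) :
    Fintype (QuadraticAlgebra R a b) :=
  Fintype.ofEquiv (R × R) (QuadraticAlgebra.equivProd a b).symm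

/-- The field with four elements. -/
abbrev F4 : Type := QuadraticAlgebra (ZMod 2) 1 1

/-- The field with nine elements. -/
abbrev F9 : Type := QuadraticAlgebra (ZMod 3) 2 0

/-- The field with forty-nine elements. -/
abbrev F49 : Type := QuadraticAlgebra (ZMod 7) 3 0

/-- The character of a cyclic group of order `k` given by a `k`-th root of unity. -/
def cycM {M : Type} [CommMonoid M] (k : ℕ) [NeZero k] (u : M) (hu : u ^ k = 1) :
    Multiplicative (ZMod k) →* Mˣ :=
  MonoidHom.toHomUnits
    { toFun := fun b => u ^ b.toAdd.val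
      map_one' := by simp
      map_mul' := fun a b => by
        rw [toAdd_mul, ← pow_add, ZMod.val_add]
        exact (pow_eq_pow_mod (a.toAdd.val + b.toAdd.val) hu).symm }

variable {A B C : Type} [CommRing A] [CommRing B] [CommRing C] [Fintype A] [Fintype B] [Fintype C]
  [DecidableEq A] [DecidableEq B] [DecidableEq C] {H : Type} [CommGroup H] [Fintype H] [DecidableEq H]

/-- Counts for two components, computed componentwise. -/
def semiCount2 (χ : H →* (A × B)ˣ) (n : ℕ) : ℕ :=
  ∑ h : H, if h ^ n = 1 then
    ker1 (geo ((χ h : A × B).1) n) * ker1 (geo ((χ h : A × B).2) n) else 0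

/-- Counts for three components, computed componentwise. -/
def semiCount3 (χ : H →* (A × B × C)ˣ) (n : ℕ) : ℕ :=
  ∑ h : H, if h ^ n = 1 then
    ker1 (geo ((χ h : A × B × C).1) n) *
      (ker1 (geo ((χ h : A × B × C).2.1) n) * ker1 (geo ((χ h : A × B × C).2.2) n)) else 0

theorem geo_fst (w : A × B) (n : ℕ) : (geo w n).1 = geo w.1 n := by
  induction n with
  | zero => rfl
  | succ n ih => simp [geo, ih]

theorem geo_snd (w : A × B) (n : ℕ) : (geo w n).2 = geo w.2 n := by
  induction n with
  | zero => rfl
  | succ n ih => simp [geo, ih]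

theorem semiCount2_eq (χ : H →* (A × B)ˣ) (n : ℕ) : semiCount χ n = semiCount2 χ n := by
  refine Finset.sum_congr rfl fun h _ => ?_
  rw [ker1_prod, geo_fst, geo_snd]

theorem semiCount3_eq (χ : H →* (A × B × C)ˣ) (n : ℕ) : semiCount χ n = semiCount3 χ n := by
  refine Finset.sum_congr rfl fun h _ => ?_
  rw [ker1_prod, ker1_prod, geo_fst, geo_snd, geo_fst, geo_snd]

theorem SolvWith.of_one (χ : H →* Aˣ) (l : List ℕ)
    (hl : ∀ n ∈ divs, semiCount χ n = tab l n) (hc : tab l 168 = Fintype.card A * Fintype.card H) :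
    SolvWith (tab l) :=
  (SolvWith.semi χ ((hl 168 (by decide)).trans hc)).congr hl

theorem SolvWith.of_two (χ : H →* (A × B)ˣ) (l : List ℕ)
    (hl : ∀ n ∈ divs, semiCount2 χ n = tab l n)
    (hc : tab l 168 = Fintype.card (A × B) * Fintype.card H) : SolvWith (tab l) :=
  (SolvWith.semi χ (((semiCount2_eq χ 168).trans (hl 168 (by decide))).trans hc)).congr
    fun n hn => (semiCount2_eq χ n).trans (hl n hn)

theorem SolvWith.of_three (χ : H →* (A × B × C)ˣ) (l : List ℕ)
    (hl : ∀ n ∈ divs, semiCount3 χ n = tab l n)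
    (hc : tab l 168 = Fintype.card (A × B × C) * Fintype.card H) : SolvWith (tab l) :=
  (SolvWith.semi χ (((semiCount3_eq χ 168).trans (hl 168 (by decide))).trans hc)).congr
    fun n hn => (semiCount3_eq χ n).trans (hl n hn)

end Cfsg.Agent.OrderType
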