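import Cfsg.Agent.Lib.FiniteGroup.OrderType.Comp

/-!
Tables for semidirect products (machine-generated list, checked by evaluation).
-/

set_option autoImplicit false
set_option maxRecDepth 4000

namespace Cfsg.Agent.OrderType

theorem leaf0 : SolvWith (tab [1, 2, 1, 4, 2, 1, 4, 4, 2, 1, 4, 4, 2, 4, 4, 4]) :=
  SolvWith.of_one (cycM 4 ((0 : ZMod 1) : ZMod 1) (by decide +kernel)) _ (by decide +kernel) (by decide +kernel)

theorem leaf8 : SolvWith (tab [1, 10, 9, 28, 18, 1, 28, 36, 10, 9, 36, 28, 18, 28, 36, 36]) :=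
  SolvWith.of_one (cycM 4 ((⟨0, 1⟩ : F9) : F9) (by decide +kernel)) _ (by decide +kernel) (by decide +kernel)

theorem leaf16 : SolvWith (tab [1, 4, 3, 64, 12, 7, 128, 192, 28, 21, 384, 112, 84, 224, 336, 672]) :=
  SolvWith.of_one (cycM 12 ((13 : ZMod 56) : ZMod 56) (by decide +kernel)) _ (by decide +kernel) (by decide +kernel)

theorem leaf24 : SolvWith (tab [1, 8, 81, 80, 216, 1, 224, 432, 8, 81, 864, 80, 216, 224, 432, 864]) :=
  SolvWith.of_two (cycM 24 (((⟨0, 1⟩ : F4), (⟨0, 1⟩ : F9)) : F4 × F9) (by decide +kernel)) _ (by decide +kernel) (by decide +kernel)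

theorem leaf32 : SolvWith (tab [1, 50, 297, 344, 738, 49, 344, 1620, 98, 441, 1620, 392, 882, 392, 1764, 1764]) :=
  SolvWith.of_two (cycM 12 (((2 : ZMod 3), (⟨0, 1⟩ : F49)) : ZMod 3 × F49) (by decide +kernel)) _ (by decide +kernel) (by decide +kernel)

theorem leaf40 : SolvWith (tab [1, 30, 15, 60, 114, 7, 64, 228, 42, 21, 288, 84, 126, 112, 252, 336]) :=
  SolvWith.of_one (cycM 6 ((3 : ZMod 56) : ZMod 56) (by decide +kernel)) _ (by decide +kernel) (by decide +kernel)

theorem leaf48 : SolvWith (tab [1, 8, 9, 400, 24, 49, 1184, 1200, 392, 441, 3552, 784, 1176, 1568, 2352, 4704]) :=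
  SolvWith.of_two (cycM 24 (((⟨0, 1⟩ : F4), (⟨0, 3⟩ : F49)) : F4 × F49) (by decide +kernel)) _ (by decide +kernel) (by decide +kernel)

end Cfsg.Agent.OrderType
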