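import Cfsg.Agent.Lib.FiniteGroup.OrderType.Comp

/-!
Tables for semidirect products (machine-generated list, checked by evaluation).
-/

set_option autoImplicit false
set_option maxRecDepth 4000

namespace Cfsg.Agent.OrderType

theorem leaf1 : SolvWith (tab [1, 2, 45, 4, 90, 7, 88, 180, 14, 63, 432, 28, 126, 112, 252, 504]) :=
  SolvWith.of_one (cycM 24 ((5 : ZMod 21) : ZMod 21) (by decide +kernel)) _ (by decide +kernel) (by decide +kernel)

theorem leaf9 : SolvWith (tab [1, 50, 15, 736, 750, 343, 736, 2808, 686, 1029, 2808, 1372, 2058, 1372, 4116, 4116]) :=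
  SolvWith.of_two (cycM 12 (((⟨0, 3⟩ : F49), (3 : ZMod 7)) : F49 × ZMod 7) (by decide +kernel)) _ (by decide +kernel) (by decide +kernel)

theorem leaf17 : SolvWith (tab [1, 2, 3, 4, 6, 7, 88, 12, 14, 21, 96, 28, 42, 112, 84, 168]) :=
  SolvWith.of_one (cycM 8 ((20 : ZMod 21) : ZMod 21) (by decide +kernel)) _ (by decide +kernel) (by decide +kernel)

theorem leaf25 : SolvWith (tab [1, 50, 687, 148, 1422, 343, 148, 2892, 686, 1029, 2892, 1372, 2058, 1372, 4116, 4116]) :=
  SolvWith.of_two (cycM 12 (((2 : ZMod 7), (⟨0, 1⟩ : F49)) : ZMod 7 × F49) (by decide +kernel)) _ (by decide +kernel) (by decide +kernel)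

theorem leaf33 : SolvWith (tab [1, 32, 57, 32, 144, 7, 32, 144, 56, 63, 144, 56, 168, 56, 168, 168]) :=
  SolvWith.of_two (cycM 6 (((⟨0, 1⟩ : F4), (3 : ZMod 7)) : F4 × ZMod 7) (by decide +kernel)) _ (by decide +kernel) (by decide +kernel)

theorem leaf49 : SolvWith (tab [1, 2, 3, 4, 6, 49, 592, 12, 98, 147, 600, 196, 294, 784, 588, 1176]) :=
  SolvWith.of_three (cycM 8 (((2 : ZMod 3), (6 : ZMod 7), (6 : ZMod 7)) : ZMod 3 × ZMod 7 × ZMod 7) (by decide +kernel)) _ (by decide +kernel) (by decide +kernel)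

end Cfsg.Agent.OrderType
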