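import Cfsg.Agent.Lib.FiniteGroup.OrderType.Comp

/-!
Tables for semidirect products (machine-generated list, checked by evaluation).
-/

set_option autoImplicit false
set_option maxRecDepth 4000

namespace Cfsg.Agent.OrderType

theorem leaf2 : SolvWith (tab [1, 4, 3, 8, 12, 1, 32, 24, 4, 3, 48, 8, 12, 32, 24, 48]) :=
  SolvWith.of_one (cycM 8 ((5 : ZMod 6) : ZMod 6) (by decide +kernel)) _ (by decide +kernel) (by decide +kernel)

theorem leaf10 : SolvWith (tab [1, 86, 45, 88, 342, 7, 88, 432, 98, 63, 432, 112, 378, 112, 504, 504]) :=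
  SolvWith.of_three (cycM 6 (((2 : ZMod 3), (3 : ZMod 7), (3 : ZMod 4)) : ZMod 3 × ZMod 7 × ZMod 4) (by decide +kernel)) _ (by decide +kernel) (by decide +kernel)

theorem leaf18 : SolvWith (tab [1, 2, 687, 100, 1374, 343, 296, 2844, 686, 1029, 5784, 1372, 2058, 2744, 4116, 8232]) :=
  SolvWith.of_two (cycM 24 (((2 : ZMod 7), (⟨0, 1⟩ : F49)) : ZMod 7 × F49) (by decide +kernel)) _ (by decide +kernel) (by decide +kernel)

theorem leaf26 : SolvWith (tab [1, 50, 687, 148, 1422, 343, 344, 2892, 686, 1029, 5832, 1372, 2058, 2744, 4116, 8232]) :=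
  SolvWith.of_two (cycM 24 (((2 : ZMod 7), (⟨1, 3⟩ : F49)) : ZMod 7 × F49) (by decide +kernel)) _ (by decide +kernel) (by decide +kernel)

theorem leaf34 : SolvWith (tab [1, 8, 57, 16, 120, 7, 128, 240, 56, 63, 576, 112, 168, 224, 336, 672]) :=
  SolvWith.of_two (cycM 24 (((⟨0, 1⟩ : F4), (3 : ZMod 7)) : F4 × ZMod 7) (by decide +kernel)) _ (by decide +kernel) (by decide +kernel)

theorem leaf42 : SolvWith (tab [1, 50, 1, 148, 50, 343, 1520, 148, 686, 343, 1520, 1372, 686, 2744, 1372, 2744]) :=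
  SolvWith.of_two (cycM 8 (((6 : ZMod 7), (⟨2, 1⟩ : F49)) : ZMod 7 × F49) (by decide +kernel)) _ (by decide +kernel) (by decide +kernel)

theorem leaf50 : SolvWith (tab [1, 10, 135, 10, 270, 7, 10, 270, 70, 189, 270, 70, 378, 70, 378, 378]) :=
  SolvWith.of_three (cycM 6 (((2 : ZMod 3), (2 : ZMod 3), (2 : ZMod 7)) : ZMod 3 × ZMod 3 × ZMod 7) (by decide +kernel)) _ (by decide +kernel) (by decide +kernel)

end Cfsg.Agent.OrderType
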