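import Cfsg.Agent.Lib.FiniteGroup.OrderType.Comp

/-!
Tables for semidirect products (machine-generated list, checked by evaluation).
-/

set_option autoImplicit false
set_option maxRecDepth 4000

namespace Cfsg.Agent.OrderType

theorem leaf3 : SolvWith (tab [1, 2, 1, 2, 2, 1, 2, 2, 2, 1, 2, 2, 2, 2, 2, 2]) :=
  SolvWith.of_one (cycM 2 ((0 : ZMod 1) : ZMod 1) (by decide +kernel)) _ (by decide +kernel) (by decide +kernel)

theorem leaf11 : SolvWith (tab [1, 116, 1, 128, 116, 7, 128, 128, 140, 7, 128, 224, 140, 224, 224, 224]) :=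
  SolvWith.of_three (cycM 2 (((6 : ZMod 7), (3 : ZMod 4), (3 : ZMod 4)) : ZMod 7 × ZMod 4 × ZMod 4) (by decide +kernel)) _ (by decide +kernel) (by decide +kernel)

theorem leaf19 : SolvWith (tab [1, 2, 687, 100, 1374, 343, 1472, 2844, 686, 1029, 6960, 1372, 2058, 2744, 4116, 8232]) :=
  SolvWith.of_two (cycM 24 (((3 : ZMod 7), (⟨0, 1⟩ : F49)) : ZMod 7 × F49) (by decide +kernel)) _ (by decide +kernel) (by decide +kernel)

theorem leaf27 : SolvWith (tab [1, 2, 1, 4, 2, 1, 8, 4, 2, 1, 8, 4, 2, 8, 4, 8]) :=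
  SolvWith.of_one (cycM 8 ((0 : ZMod 1) : ZMod 1) (by decide +kernel)) _ (by decide +kernel) (by decide +kernel)

theorem leaf35 : SolvWith (tab [1, 148, 3, 148, 150, 49, 148, 150, 196, 147, 150, 196, 294, 196, 294, 294]) :=
  SolvWith.of_three (cycM 2 (((2 : ZMod 3), (6 : ZMod 7), (6 : ZMod 7)) : ZMod 3 × ZMod 7 × ZMod 7) (by decide +kernel)) _ (by decide +kernel) (by decide +kernel)

theorem leaf43 : SolvWith (tab [1, 4, 3, 8, 12, 7, 64, 24, 28, 21, 192, 56, 84, 112, 168, 336]) :=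
  SolvWith.of_one (cycM 24 ((13 : ZMod 14) : ZMod 14) (by decide +kernel)) _ (by decide +kernel) (by decide +kernel)

theorem leaf51 : SolvWith (tab [1, 4, 45, 32, 180, 7, 32, 432, 28, 63, 432, 56, 252, 56, 504, 504]) :=
  SolvWith.of_one (cycM 12 ((19 : ZMod 42) : ZMod 42) (by decide +kernel)) _ (by decide +kernel) (by decide +kernel)

end Cfsg.Agent.OrderType
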