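import Cfsg.Agent.Lib.FiniteGroup.OrderType.Comp

/-!
Tables for semidirect products (machine-generated list, checked by evaluation).
-/

set_option autoImplicit false
set_option maxRecDepth 4000

namespace Cfsg.Agent.OrderType

theorem leaf4 : SolvWith (tab [1, 4, 3, 56, 12, 1, 64, 72, 4, 3, 96, 56, 12, 64, 72, 96]) :=
  SolvWith.of_one (cycM 4 ((11 : ZMod 24) : ZMod 24) (by decide +kernel)) _ (by decide +kernel) (by decide +kernel)

theorem leaf12 : SolvWith (tab [1, 8, 1, 928, 8, 7, 1024, 928, 56, 7, 1024, 1120, 56, 1792, 1120, 1792]) :=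
  SolvWith.of_three (cycM 4 (((6 : ZMod 7), (3 : ZMod 8), (3 : ZMod 8)) : ZMod 7 × ZMod 8 × ZMod 8) (by decide +kernel)) _ (by decide +kernel) (by decide +kernel)

theorem leaf20 : SolvWith (tab [1, 2, 15, 100, 30, 343, 1472, 1500, 686, 1029, 5616, 1372, 2058, 2744, 4116, 8232]) :=
  SolvWith.of_two (cycM 24 (((⟨0, 3⟩ : F49), (3 : ZMod 7)) : F49 × ZMod 7) (by decide +kernel)) _ (by decide +kernel) (by decide +kernel)

theorem leaf28 : SolvWith (tab [1, 2, 9, 128, 18, 7, 128, 144, 14, 63, 144, 140, 126, 140, 252, 252]) :=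
  SolvWith.of_three (cycM 4 (((2 : ZMod 3), (2 : ZMod 3), (6 : ZMod 7)) : ZMod 3 × ZMod 3 × ZMod 7) (by decide +kernel)) _ (by decide +kernel) (by decide +kernel)

theorem leaf36 : SolvWith (tab [1, 10, 1, 12, 10, 1, 16, 12, 10, 1, 16, 12, 10, 16, 12, 16]) :=
  SolvWith.of_one (cycM 2 ((7 : ZMod 8) : ZMod 8) (by decide +kernel)) _ (by decide +kernel) (by decide +kernel)

theorem leaf44 : SolvWith (tab [1, 1, 99, 1, 99, 49, 1, 99, 49, 147, 99, 49, 147, 49, 147, 147]) :=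
  SolvWith.of_two (cycM 3 (((2 : ZMod 7), (2 : ZMod 7)) : ZMod 7 × ZMod 7) (by decide +kernel)) _ (by decide +kernel) (by decide +kernel)

theorem leaf52 : SolvWith (tab [1, 2, 135, 4, 270, 7, 40, 540, 14, 189, 1080, 28, 378, 280, 756, 1512]) :=
  SolvWith.of_three (cycM 24 (((2 : ZMod 3), (2 : ZMod 3), (2 : ZMod 7)) : ZMod 3 × ZMod 3 × ZMod 7) (by decide +kernel)) _ (by decide +kernel) (by decide +kernel)

end Cfsg.Agent.OrderType
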