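import Cfsg.Agent.Lib.FiniteGroup.OrderType.Comp

/-!
Tables for semidirect products (machine-generated list, checked by evaluation).
-/

set_option autoImplicit false
set_option maxRecDepth 4000

namespace Cfsg.Agent.OrderType

theorem leaf5 : SolvWith (tab [1, 4, 15, 8, 60, 7, 8, 120, 28, 21, 120, 56, 84, 56, 168, 168]) :=
  SolvWith.of_one (cycM 12 ((9 : ZMod 14) : ZMod 14) (by decide +kernel)) _ (by decide +kernel) (by decide +kernel)

theorem leaf13 : SolvWith (tab [1, 116, 15, 464, 396, 7, 512, 1584, 140, 21, 2304, 560, 420, 896, 1680, 2688]) :=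
  SolvWith.of_three (cycM 6 (((3 : ZMod 7), (3 : ZMod 8), (3 : ZMod 8)) : ZMod 7 × ZMod 8 × ZMod 8) (by decide +kernel)) _ (by decide +kernel) (by decide +kernel)

theorem leaf21 : SolvWith (tab [1, 30, 3, 32, 90, 7, 32, 96, 42, 21, 96, 56, 126, 56, 168, 168]) :=
  SolvWith.of_one (cycM 6 ((27 : ZMod 28) : ZMod 28) (by decide +kernel)) _ (by decide +kernel) (by decide +kernel)

theorem leaf29 : SolvWith (tab [1, 4, 1, 24, 4, 1, 32, 24, 4, 1, 32, 24, 4, 32, 24, 32]) :=
  SolvWith.of_one (cycM 4 ((3 : ZMod 8) : ZMod 8) (by decide +kernel)) _ (by decide +kernel) (by decide +kernel)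

theorem leaf37 : SolvWith (tab [1, 16, 3, 16, 48, 7, 16, 48, 28, 21, 48, 28, 84, 28, 84, 84]) :=
  SolvWith.of_one (cycM 6 ((13 : ZMod 14) : ZMod 14) (by decide +kernel)) _ (by decide +kernel) (by decide +kernel)

theorem leaf45 : SolvWith (tab [1, 50, 15, 148, 750, 343, 1520, 2220, 686, 1029, 6336, 1372, 2058, 2744, 4116, 8232]) :=
  SolvWith.of_two (cycM 24 (((3 : ZMod 7), (⟨2, 1⟩ : F49)) : ZMod 7 × F49) (by decide +kernel)) _ (by decide +kernel) (by decide +kernel)

theorem leaf53 : SolvWith (tab [1, 2, 9, 20, 18, 1, 56, 36, 2, 9, 72, 20, 18, 56, 36, 72]) :=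
  SolvWith.of_one (cycM 8 ((⟨0, 1⟩ : F9) : F9) (by decide +kernel)) _ (by decide +kernel) (by decide +kernel)

end Cfsg.Agent.OrderType
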