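import Cfsg.Agent.Lib.FiniteGroup.OrderType.Comp

/-!
Tables for semidirect products (machine-generated list, checked by evaluation).
-/

set_option autoImplicit false
set_option maxRecDepth 4000

namespace Cfsg.Agent.OrderType

theorem leaf6 : SolvWith (tab [1, 4, 3, 16, 12, 1, 16, 24, 4, 3, 24, 16, 12, 16, 24, 24]) :=
  SolvWith.of_one (cycM 4 ((5 : ZMod 6) : ZMod 6) (by decide +kernel)) _ (by decide +kernel) (by decide +kernel)

theorem leaf22 : SolvWith (tab [1, 2, 15, 100, 30, 49, 100, 324, 98, 147, 324, 196, 294, 196, 588, 588]) :=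
  SolvWith.of_two (cycM 12 (((6 : ZMod 7), (3 : ZMod 7)) : ZMod 7 × ZMod 7) (by decide +kernel)) _ (by decide +kernel) (by decide +kernel)

theorem leaf30 : SolvWith (tab [1, 30, 1, 60, 30, 7, 64, 60, 42, 7, 64, 84, 42, 112, 84, 112]) :=
  SolvWith.of_one (cycM 2 ((27 : ZMod 56) : ZMod 56) (by decide +kernel)) _ (by decide +kernel) (by decide +kernel)

theorem leaf38 : SolvWith (tab [1, 64, 135, 64, 324, 7, 64, 324, 70, 189, 324, 70, 378, 70, 378, 378]) :=
  SolvWith.of_three (cycM 6 (((2 : ZMod 3), (2 : ZMod 3), (3 : ZMod 7)) : ZMod 3 × ZMod 3 × ZMod 7) (by decide +kernel)) _ (by decide +kernel) (by decide +kernel)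

theorem leaf46 : SolvWith (tab [1, 100, 3, 112, 108, 1, 128, 144, 100, 3, 192, 112, 108, 128, 144, 192]) :=
  SolvWith.of_three (cycM 2 (((2 : ZMod 3), (3 : ZMod 4), (7 : ZMod 8)) : ZMod 3 × ZMod 4 × ZMod 8) (by decide +kernel)) _ (by decide +kernel) (by decide +kernel)

theorem leaf54 : SolvWith (tab [1, 10, 9, 28, 18, 1, 64, 36, 10, 9, 72, 28, 18, 64, 36, 72]) :=
  SolvWith.of_one (cycM 8 ((⟨1, 1⟩ : F9) : F9) (by decide +kernel)) _ (by decide +kernel) (by decide +kernel)

end Cfsg.Agent.OrderType
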