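import Cfsg.Agent.Lib.FiniteGroup.OrderType.Comp

/-!
Tables for semidirect products (machine-generated list, checked by evaluation).
-/

set_option autoImplicit false
set_option maxRecDepth 4000

namespace Cfsg.Agent.OrderType

theorem leaf7 : SolvWith (tab [1, 2, 1, 4, 2, 49, 200, 4, 98, 49, 200, 196, 98, 392, 196, 392]) :=
  SolvWith.of_two (cycM 8 (((6 : ZMod 7), (6 : ZMod 7)) : ZMod 7 × ZMod 7) (by decide +kernel)) _ (by decide +kernel) (by decide +kernel)

theorem leaf15 : SolvWith (tab [1, 344, 15, 344, 1044, 343, 344, 1044, 686, 1029, 1044, 686, 2058, 686, 2058, 2058]) :=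
  SolvWith.of_three (cycM 6 (((6 : ZMod 7), (6 : ZMod 7), (3 : ZMod 7)) : ZMod 7 × ZMod 7 × ZMod 7) (by decide +kernel)) _ (by decide +kernel) (by decide +kernel)

theorem leaf23 : SolvWith (tab [1, 50, 99, 736, 246, 343, 736, 2304, 686, 1029, 2304, 1372, 2058, 1372, 4116, 4116]) :=
  SolvWith.of_two (cycM 12 (((6 : ZMod 7), (⟨0, 1⟩ : F49)) : ZMod 7 × F49) (by decide +kernel)) _ (by decide +kernel) (by decide +kernel)

theorem leaf31 : SolvWith (tab [1, 1, 3, 1, 3, 1, 1, 3, 1, 3, 3, 1, 3, 1, 3, 3]) :=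
  SolvWith.of_one (cycM 3 ((0 : ZMod 1) : ZMod 1) (by decide +kernel)) _ (by decide +kernel) (by decide +kernel)

theorem leaf39 : SolvWith (tab [1, 148, 45, 148, 486, 49, 148, 486, 196, 441, 486, 196, 882, 196, 882, 882]) :=
  SolvWith.of_three (cycM 6 (((2 : ZMod 3), (6 : ZMod 7), (3 : ZMod 7)) : ZMod 3 × ZMod 7 × ZMod 7) (by decide +kernel)) _ (by decide +kernel) (by decide +kernel)

theorem leaf47 : SolvWith (tab [1, 2, 9, 100, 18, 49, 688, 900, 98, 441, 2664, 196, 882, 784, 1764, 3528]) :=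
  SolvWith.of_two (cycM 24 (((2 : ZMod 3), (⟨0, 3⟩ : F49)) : ZMod 3 × F49) (by decide +kernel)) _ (by decide +kernel) (by decide +kernel)

theorem leaf55 : SolvWith (tab [1, 2, 15, 4, 30, 49, 200, 60, 98, 147, 648, 196, 294, 392, 588, 1176]) :=
  SolvWith.of_two (cycM 24 (((6 : ZMod 7), (3 : ZMod 7)) : ZMod 7 × ZMod 7) (by decide +kernel)) _ (by decide +kernel) (by decide +kernel)

end Cfsg.Agent.OrderType
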