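import Cfsg.Agent.Lib.FiniteGroup.OrderType.Special
import Cfsg.Agent.Lib.FiniteGroup.OrderType.Leaves0
import Cfsg.Agent.Lib.FiniteGroup.OrderType.Leaves1
import Cfsg.Agent.Lib.FiniteGroup.OrderType.Leaves2
import Cfsg.Agent.Lib.FiniteGroup.OrderType.Leaves3
import Cfsg.Agent.Lib.FiniteGroup.OrderType.Leaves4
import Cfsg.Agent.Lib.FiniteGroup.OrderType.Leaves5
import Cfsg.Agent.Lib.FiniteGroup.OrderType.Leaves6
import Cfsg.Agent.Lib.FiniteGroup.OrderType.Leaves7

/-!
Two finite groups with the same order type, one solvable and the other not.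
-/

set_option autoImplicit false
set_option maxRecDepth 8000

namespace Cfsg.Agent.OrderType

theorem cnt_gcd {G : Type} [Group G] (he : ∀ g : G, g ^ 168 = 1) (n : ℕ) :
    cnt G n = cnt G (n.gcd 168) := by
  refine Nat.card_congr (Equiv.subtypeEquivRight fun g => ?_)
  rw [← orderOf_dvd_iff_pow_eq_one, ← orderOf_dvd_iff_pow_eq_one, Nat.dvd_gcd_iff]
  exact ⟨fun h => ⟨h, orderOf_dvd_iff_pow_eq_one.2 (he g)⟩, fun h => h.1⟩

theorem gcd_mem_divs (n : ℕ) : n.gcd 168 ∈ divs := by
  have h : ∀ d ∈ Nat.divisors 168, d ∈ divs := by decide +kernel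
  exact h _ (Nat.mem_divisors.2 ⟨Nat.gcd_dvd_right n 168, by norm_num⟩)

theorem cnt_eq_sum (G : Type) [Group G] [Finite G] {n : ℕ} (hn : 0 < n) :
    cnt G n = ∑ d ∈ n.divisors, Nat.card {g : G // orderOf g = d} := by
  classical
  haveI : Fintype G := Fintype.ofFinite G
  simp only [cnt, Nat.card_eq_fintype_card, Fintype.card_subtype]
  rw [Finset.card_eq_sum_card_fiberwise (f := orderOf) (t := n.divisors) (fun g hg => by
    simp only [Finset.coe_filter, Finset.mem_univ, true_and, Set.mem_setOf_eq] at hg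
    exact Finset.mem_coe.2 (Nat.mem_divisors.2 ⟨orderOf_dvd_iff_pow_eq_one.2 hg, hn.ne'⟩))]
  refine Finset.sum_congr rfl fun d hd => ?_
  congr 1
  ext g
  simp only [Finset.mem_filter, Finset.mem_univ, true_and]
  exact ⟨fun h => h.2, fun h => ⟨orderOf_dvd_iff_pow_eq_one.1 (h.symm ▸ (Nat.mem_divisors.1 hd).1), h⟩⟩

theorem card_order_eq {G H : Type} [Group G] [Finite G] [Group H] [Finite H]
    (h : ∀ n : ℕ, cnt G n = cnt H n) (n : ℕ) :
    Nat.card {g : G // orderOf g = n} = Nat.card {g : H // orderOf g = n} := by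
  induction n using Nat.strong_induction_on with
  | _ n ih =>
    rcases Nat.eq_zero_or_pos n with rfl | hn
    · haveI : IsEmpty {g : G // orderOf g = 0} := ⟨fun g => (orderOf_pos g.1).ne' g.2⟩
      haveI : IsEmpty {g : H // orderOf g = 0} := ⟨fun g => (orderOf_pos g.1).ne' g.2⟩
      rw [Nat.card_of_isEmpty, Nat.card_of_isEmpty]
    · have e := h n
      rw [cnt_eq_sum G hn, cnt_eq_sum H hn, ← Nat.cons_self_properDivisors hn.ne', Finset.sum_cons,
        Finset.sum_cons, Finset.sum_congr rfl fun d hd => ih d (Nat.mem_properDivisors.1 hd).2] at e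
      exact Nat.add_right_cancel e

theorem main_exists :
    ∃ (G : Type) (_ : Group G) (_ : Finite G) (H : Type) (_ : Group H) (_ : Finite H),
      Group.IsSolvable G ∧ ¬ Group.IsSolvable H ∧
        ∀ n : ℕ, Nat.card {g : G // orderOf g = n} = Nat.card {h : H // orderOf h = n} := by
  have hN := (nonsolv_sl27.pow 5).prod
    (((((((((((((((((((((((((leaf1.pow 42).prod
      (leaf2.pow 60)).prod
      (leaf5.pow 30)).prod
      (leaf6.pow 12)).prod
      (leaf8.pow 24)).prod
      (leaf13.pow 6)).prod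
      (leaf15.pow 6)).prod
      (leaf18.pow 6)).prod
      (leaf20.pow 6)).prod
      (leaf21.pow 54)).prod
      (leaf22.pow 30)).prod
      (leaf23.pow 6)).prod
      (leaf26.pow 6)).prod
      (leaf27.pow 18)).prod
      (leaf28.pow 24)).prod
      (leaf29.pow 60)).prod
      (leaf33.pow 24)).prod
      (leaf35.pow 10)).prod
      (leaf41.pow 6)).prod
      (leaf43.pow 75)).prod
      (leaf45.pow 6)).prod
      (leaf46.pow 3)).prod
      (leaf48.pow 6)).prod
      (leaf50.pow 6)))
  have hS := ((((((((((((((((((((((((((((((((leaf0.pow 78).prod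
      (leaf3.pow 120)).prod
      (leaf4.pow 9)).prod
      (leaf7.pow 4)).prod
      (leaf9.pow 6)).prod
      (leaf10.pow 6)).prod
      (leaf11.pow 6)).prod
      (leaf12.pow 6)).prod
      (leaf14.pow 6)).prod
      (leaf16.pow 57)).prod
      (leaf17.pow 36)).prod
      (leaf19.pow 6)).prod
      (leaf24.pow 6)).prod
      (leaf25.pow 6)).prod
      (leaf30.pow 48)).prod
      (leaf31.pow 12)).prod
      (leaf32.pow 6)).prod
      (leaf34.pow 24)).prod
      (leaf36.pow 6)).prod
      (leaf37.pow 12)).prod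
      (leaf38.pow 12)).prod
      (leaf39.pow 10)).prod
      (leaf40.pow 6)).prod
      (leaf42.pow 6)).prod
      (leaf44.pow 6)).prod
      (leaf47.pow 6)).prod
      (leaf49.pow 6)).prod
      (leaf51.pow 54)).prod
      (leaf52.pow 18)).prod
      (leaf53.pow 18)).prod
      (leaf54.pow 18)).prod
      (leaf55.pow 20))
  obtain ⟨G, i, f, hs, he, hc⟩ := hS
  obtain ⟨H, i', f', hs', he', hc'⟩ := hN
  refine ⟨G, i, f, H, i', f', hs, hs', card_order_eq fun n => ?_⟩
  rw [cnt_gcd he, cnt_gcd he', hc _ (gcd_mem_divs n), hc' _ (gcd_mem_divs n)]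
  have hmem := gcd_mem_divs n
  revert hmem
  generalize n.gcd 168 = d
  revert d
  decide +kernel

end Cfsg.Agent.OrderType
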