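import Cfsg.Agent.Lib.FiniteGroup.OrderType.Comp
import Mathlib.LinearAlgebra.Matrix.SpecialLinearGroup
import Mathlib.Tactic.FinCases
import Mathlib.GroupTheory.Commutator.Basic

/-!
Tables for a group of order `588`, the group of order `168` of semilinear affine maps of the field
with eight elements, and `SL(2, 7)`.
-/

set_option autoImplicit false
set_option maxRecDepth 8000

namespace Cfsg.Agent.OrderType

open scoped commutatorElement

theorem leaf41 : SolvWith
    (tab [1, 64, 99, 64, 456, 49, 64, 456, 196, 147, 456, 196, 588, 196, 588, 588]) :=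
  SolvWith.of_two ((cycM 2 ((6, 6) : ZMod 7 × ZMod 7) (by decide +kernel)).coprod
    (cycM 6 ((5, 4) : ZMod 7 × ZMod 7) (by decide +kernel))) _ (by decide +kernel) (by decide +kernel)

/-- The multiplicative group of order eight and exponent two. -/
abbrev V8 : Type := Multiplicative (ZMod 2 × ZMod 2 × ZMod 2)

/-- The Frobenius group of order twenty-one. -/
abbrev H21 : Type :=
  Multiplicative (ZMod 7) ⋊[unitAct (cycM 3 (2 : ZMod 7) (by decide +kernel))] Multiplicative (ZMod 3)

instance h21Fintype : Fintype H21 := Fintype.ofEquiv _ SemidirectProduct.equivProd.symm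

/-- Multiplication by a generator of the field with eight elements. -/
def mulAlpha (v : ZMod 2 × ZMod 2 × ZMod 2) : ZMod 2 × ZMod 2 × ZMod 2 := (v.2.2, v.1 + v.2.2, v.2.1)

/-- Squaring in the field with eight elements. -/
def frob (v : ZMod 2 × ZMod 2 × ZMod 2) : ZMod 2 × ZMod 2 × ZMod 2 := (v.1, v.2.2, v.2.1 + v.2.2)

/-- The semilinear action. -/
def actFun (h : H21) (v : V8) : V8 :=
  Multiplicative.ofAdd (mulAlpha^[h.left.toAdd.val] (frob^[h.right.toAdd.val] v.toAdd))

/-- The semilinear action as automorphisms. -/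
def act : H21 →* MulAut V8 where
  toFun h :=
    { toFun := actFun h
      invFun := actFun h⁻¹
      left_inv := (by decide +kernel : ∀ (h : H21) (v : V8), actFun h⁻¹ (actFun h v) = v) h
      right_inv := (by decide +kernel : ∀ (h : H21) (v : V8), actFun h (actFun h⁻¹ v) = v) h
      map_mul' := (by decide +kernel :
        ∀ (h : H21) (v w : V8), actFun h (v * w) = actFun h v * actFun h w) h }
  map_one' := MulEquiv.ext (by decide +kernel : ∀ v : V8, actFun 1 v = v)
  map_mul' g h := MulEquiv.ext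
    ((by decide +kernel : ∀ (g h : H21) (v : V8), actFun (g * h) v = actFun g (actFun h v)) g h)

/-- The group of order `168`. -/
abbrev G168 : Type := V8 ⋊[act] H21

instance g168Fintype : Fintype G168 := Fintype.ofEquiv _ SemidirectProduct.equivProd.symm

theorem cnt_eq_filter (G : Type) [Monoid G] [Fintype G] [DecidableEq G] (n : ℕ) :
    cnt G n = (Finset.univ.filter fun g : G => g ^ n = 1).card := by
  rw [cnt, Nat.card_eq_fintype_card, Fintype.card_subtype]

theorem leaf14 : SolvWith (tab [1, 8, 57, 8, 120, 49, 8, 120, 56, 105, 120, 56, 168, 56, 168, 168]) := by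
  have h : ∀ n ∈ divs, (Finset.univ.filter fun g : G168 => g ^ n = 1).card =
      tab [1, 8, 57, 8, 120, 49, 8, 120, 56, 105, 120, 56, 168, 56, 168, 168] n := by decide +kernel
  refine ⟨G168, inferInstance, inferInstance, ?_, exp_of_cnt ?_,
    fun n hn => (cnt_eq_filter G168 n).trans (h n hn)⟩
  · haveI : Group.IsSolvable H21 := solvable_of_ker_le_range (f := SemidirectProduct.inl)
      (g := SemidirectProduct.rightHom) (le_of_eq SemidirectProduct.range_inl_eq_ker_rightHom.symm)
    exact solvable_of_ker_le_range (f := SemidirectProduct.inl)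
      (g := SemidirectProduct.rightHom) (le_of_eq SemidirectProduct.range_inl_eq_ker_rightHom.symm)
  · rw [cnt_eq_filter, h 168 (by decide), Nat.card_eq_fintype_card]
    decide +kernel

/-! ### `SL(2, 7)` -/

/-- Two by two matrices over the field with seven elements, as tuples. -/
abbrev M7 : Type := ZMod 7 × ZMod 7 × ZMod 7 × ZMod 7

/-- Matrix multiplication. -/
def mul7 (x y : M7) : M7 :=
  (x.1 * y.1 + x.2.1 * y.2.2.1, x.1 * y.2.1 + x.2.1 * y.2.2.2,
    x.2.2.1 * y.1 + x.2.2.2 * y.2.2.1, x.2.2.1 * y.2.1 + x.2.2.2 * y.2.2.2)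

/-- Powers of a matrix. -/
def pow7 (x : M7) : ℕ → M7
  | 0 => (1, 0, 0, 1)
  | n + 1 => mul7 x (pow7 x n)

/-- The determinant. -/
def det7 (x : M7) : ZMod 7 := x.1 * x.2.2.2 - x.2.1 * x.2.2.1

/-- The special linear group of degree two over the field with seven elements. -/
abbrev SL27 : Type := Matrix.SpecialLinearGroup (Fin 2) (ZMod 7)

/-- The entries of a matrix. -/
def ent (g : SL27) : M7 := (g 0 0, g 0 1, g 1 0, g 1 1)

theorem ent_inj : Function.Injective ent := by
  intro g h e
  simp only [ent, Prod.mk.injEq] at e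
  obtain ⟨e1, e2, e3, e4⟩ := e
  refine Matrix.SpecialLinearGroup.ext _ _ fun i j => ?_
  fin_cases i <;> fin_cases j <;> assumption

theorem ent_mul (g h : SL27) : ent (g * h) = mul7 (ent g) (ent h) := by
  simp [ent, mul7, Matrix.mul_apply, Fin.sum_univ_two]

theorem ent_pow (g : SL27) (n : ℕ) : ent (g ^ n) = pow7 (ent g) n := by
  induction n with
  | zero => simp [ent, pow7]
  | succ n ih => rw [pow_succ', ent_mul, ih]; rfl

theorem det_ent (g : SL27) : det7 (ent g) = 1 := by
  have h := g.2
  rw [Matrix.det_fin_two] at h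
  exact h

theorem cnt_sl27 (n : ℕ) :
    cnt SL27 n = (Finset.univ.filter fun x : M7 => det7 x = 1 ∧ pow7 x n = (1, 0, 0, 1)).card := by
  rw [cnt, ← Fintype.card_subtype, ← Nat.card_eq_fintype_card]
  refine Nat.card_eq_of_bijective (fun g => ⟨ent g.1, det_ent g.1, by
    rw [← ent_pow, g.2]
    simp [ent]⟩) ⟨fun g h e => Subtype.ext (ent_inj (congrArg Subtype.val e)), ?_⟩
  rintro ⟨⟨a, b, c, d⟩, hd, hp⟩
  have hdet : (!![a, b; c, d] : Matrix (Fin 2) (Fin 2) (ZMod 7)).det = 1 := by
    rw [Matrix.det_fin_two_of]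
    exact hd
  obtain ⟨g, hg⟩ : ∃ g : SL27, ent g = (a, b, c, d) := ⟨⟨!![a, b; c, d], hdet⟩, rfl⟩
  have he := hg
  refine ⟨⟨g, ent_inj ?_⟩, Subtype.ext he⟩
  rw [ent_pow, he, hp]
  simp [ent]

theorem nat_card_sl27 : Nat.card SL27 = 336 := by
  have h : (Finset.univ.filter fun x : M7 => det7 x = 1).card = 336 := by decide +kernel
  rw [← h, ← Fintype.card_subtype, ← Nat.card_eq_fintype_card]
  refine Nat.card_eq_of_bijective (fun g => ⟨ent g, det_ent g⟩)
    ⟨fun g h e => ent_inj (congrArg Subtype.val e), ?_⟩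
  rintro ⟨⟨a, b, c, d⟩, hd⟩
  have hdet : (!![a, b; c, d] : Matrix (Fin 2) (Fin 2) (ZMod 7)).det = 1 := by
    rw [Matrix.det_fin_two_of]
    exact hd
  exact ⟨⟨!![a, b; c, d], hdet⟩, rfl⟩

/-- The upper transvection. -/
def tU : SL27 := ⟨!![1, 1; 0, 1], by decide +kernel⟩

/-- The lower transvection. -/
def tL : SL27 := ⟨!![1, 0; 1, 1], by decide +kernel⟩

theorem not_solvable_sl27 : ¬ Group.IsSolvable SL27 := by
  set D : SL27 := tU ^ 3 * tL ^ 2 * tU ^ 2 * tL * tU ^ 6 with hD
  have e1 : ⁅D, tU⁆ = tU := ent_inj (by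
    rw [commutatorElement_def]
    decide +kernel)
  have e2 : ⁅D⁻¹, tL⁆ = tL := ent_inj (by
    rw [commutatorElement_def]
    decide +kernel)
  intro hs
  obtain ⟨n, hn⟩ := hs.solvable
  have key : ∀ k, tU ∈ derivedSeries SL27 k ∧ tL ∈ derivedSeries SL27 k := by
    intro k
    induction k with
    | zero => exact ⟨trivial, trivial⟩
    | succ k ih =>
      have hDk : D ∈ derivedSeries SL27 k :=
        mul_mem (mul_mem (mul_mem (mul_mem (pow_mem ih.1 _) (pow_mem ih.2 _)) (pow_mem ih.1 _)) ih.2)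
          (pow_mem ih.1 _)
      rw [derivedSeries_succ]
      exact ⟨e1 ▸ Subgroup.commutator_mem_commutator hDk ih.1,
        e2 ▸ Subgroup.commutator_mem_commutator (inv_mem hDk) ih.2⟩
  have h := (key n).1
  rw [hn, Subgroup.mem_bot] at h
  exact absurd (congrArg ent h) (by decide +kernel)

set_option maxHeartbeats 1000000 in
theorem nonsolv_sl27 : NonsolvWith
    (tab [1, 2, 57, 44, 114, 49, 128, 156, 98, 105, 240, 140, 210, 224, 252, 336]) := by
  have h : ∀ n ∈ divs,
      (Finset.univ.filter fun x : M7 => det7 x = 1 ∧ pow7 x n = (1, 0, 0, 1)).card =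
      tab [1, 2, 57, 44, 114, 49, 128, 156, 98, 105, 240, 140, 210, 224, 252, 336] n := by decide +kernel
  refine ⟨SL27, inferInstance, inferInstance, not_solvable_sl27, exp_of_cnt ?_,
    fun n hn => (cnt_sl27 n).trans (h n hn)⟩
  rw [cnt_sl27, h 168 (by decide), nat_card_sl27]
  rfl

end Cfsg.Agent.OrderType
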